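import Groth.Agent.Lib.RelSpec.OfAffine
import Groth.Prelude.Def_RelSpec2
import Groth.Prelude.Def_Coh
import Mathlib.CategoryTheory.Limits.Shapes.BinaryBiproducts
import Mathlib.Algebra.Polynomial.Eval.Defs

/-!
# The symmetric algebra of `E ⊕ O` is `Sym(E)[z]`
-/

set_option autoImplicit false
set_option backward.isDefEq.respectTransparency false
set_option linter.style.haveILetI false

universe u

open CategoryTheory CategoryTheory.Limits AlgebraicGeometry TopologicalSpace Opposite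
open RelCone (restrictTop)

noncomputable section

namespace GrothLib.SymPoly8

variable {Y : Scheme.{u}} {𝒮 𝒮h : RelProj.QCGrAlg Y} {ι : 𝒮.toQCAlg ⟶ 𝒮h.toQCAlg}
  {z : 𝒮h.presheaf.obj (op ⊤)}

theorem str_hom {A B : RelSpec.QCAlg Y} (φ : A ⟶ B) (U : Y.Opens) (r : Γ(Y, U)) :
    (φ.hom.app (op U)).hom ((A.str.app (op U)).hom r) = (B.str.app (op U)).hom r :=
  ConcreteCategory.congr_hom (NatTrans.congr_app φ.comm (op U)) r

theorem toModuleMap_comp {P Q R : RelSpec.QCAlg Y} (f : P ⟶ Q) (g : Q ⟶ R) :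
    RelSpec.QCAlg.Hom.toModuleMap (f ≫ g) =
      RelSpec.QCAlg.Hom.toModuleMap f ≫ RelSpec.QCAlg.Hom.toModuleMap g :=
  RelSpec.modHom_ext fun _ _ _ => rfl

theorem restrictTop_res (𝒜 : RelProj.QCGrAlg Y) (s : 𝒜.presheaf.obj (op ⊤)) {U V : Y.Opens} (h : V ≤ U) :
    (𝒜.presheaf.map (homOfLE h).op).hom (restrictTop 𝒜 s U) = restrictTop 𝒜 s V := by
  show (𝒜.presheaf.map (homOfLE h).op).hom ((𝒜.presheaf.map (homOfLE le_top).op).hom s) = _
  rw [← CommRingCat.comp_apply, ← 𝒜.presheaf.map_comp]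
  rfl

variable (E : Y.Modules) (j : E ⟶ 𝒮.toModule) (k : Coh.structureModule Y ⟶ 𝒮h.toModule)

/-- The universal property of `Sym(E ⊕ O) = Sym(E)[z]`. -/
theorem isSymAlg_biprod (hS : RelSpec.IsSymAlg E 𝒮.toQCAlg j)
    (hz : RelCone.IsPolyOver 𝒮 𝒮h ι z)
    (hk : ∀ U : Y.Opens, (k.app U) (1 : Γ(Y, U)) = restrictTop 𝒮h z U) :
    RelSpec.IsSymAlg (E ⊞ Coh.structureModule Y) 𝒮h.toQCAlg
      (biprod.desc (j ≫ RelSpec.QCAlg.Hom.toModuleMap ι) k) := by
  intro B φ
  obtain ⟨ψ0, hψ0, hψ0u⟩ := hS B (biprod.inl ≫ φ)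
  let φ2 : Coh.structureModule Y ⟶ B.toModule := biprod.inr ≫ φ
  let t : ∀ U : Y.Opens, B.presheaf.obj (op U) := fun U => φ2.app U (1 : Γ(Y, U))
  have ht : ∀ {U V : Y.Opens} (h : V ≤ U), (B.presheaf.map (homOfLE h).op).hom (t U) = t V := fun {U V} h =>
    ((ConcreteCategory.congr_hom (φ2.mapPresheaf.naturality (homOfLE h).op) (1 : Γ(Y, U))).symm).trans
      (congrArg (φ2.app V) (map_one (Y.presheaf.map (homOfLE h).op).hom))
  let P : ∀ U : Y.Opens, IsAffineOpen U → (Polynomial (𝒮.presheaf.obj (op U)) ≃+* 𝒮h.presheaf.obj (op U)) :=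
    fun U hU => RingEquiv.ofBijective _ (hz.bij U hU)
  have hPC : ∀ (U : Y.Opens) (hU : IsAffineOpen U) (a : 𝒮.presheaf.obj (op U)),
      P U hU (Polynomial.C a) = (ι.hom.app (op U)).hom a := fun U hU a => Polynomial.eval₂_C _ _
  have hPX : ∀ (U : Y.Opens) (hU : IsAffineOpen U), P U hU Polynomial.X = restrictTop 𝒮h z U :=
    fun U hU => Polynomial.eval₂_X _ _
  let ψ : ∀ U : Y.Opens, IsAffineOpen U → (𝒮h.presheaf.obj (op U) →+* B.presheaf.obj (op U)) :=
    fun U hU => (Polynomial.eval₂RingHom (ψ0.hom.app (op U)).hom (t U)).comp (P U hU).symm.toRingHom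
  have hψι : ∀ (U : Y.Opens) (hU : IsAffineOpen U) (a : 𝒮.presheaf.obj (op U)),
      ψ U hU ((ι.hom.app (op U)).hom a) = (ψ0.hom.app (op U)).hom a := fun U hU a => by
    show Polynomial.eval₂ _ _ ((P U hU).symm _) = _
    rw [← hPC U hU, RingEquiv.symm_apply_apply, Polynomial.eval₂_C]
  have hψz : ∀ (U : Y.Opens) (hU : IsAffineOpen U), ψ U hU (restrictTop 𝒮h z U) = t U := fun U hU => by
    show Polynomial.eval₂ _ _ ((P U hU).symm _) = _
    rw [← hPX U hU, RingEquiv.symm_apply_apply, Polynomial.eval₂_X]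
  have hψs : ∀ (U : Y.Opens) (hU : IsAffineOpen U) (r : Γ(Y, U)),
      ψ U hU ((𝒮h.str.app (op U)).hom r) = (B.str.app (op U)).hom r := fun U hU r => by
    rw [← str_hom ι U r, hψι U hU, str_hom]
  have hnat : ∀ (U V : Y.Opens) (hU : IsAffineOpen U) (hV : IsAffineOpen V) (h : V ≤ U)
      (x : 𝒮h.presheaf.obj (op U)),
      ψ V hV ((𝒮h.presheaf.map (homOfLE h).op).hom x) = (B.presheaf.map (homOfLE h).op).hom (ψ U hU x) := by
    intro U V hU hV h x
    obtain ⟨p, rfl⟩ := (P U hU).surjective x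
    refine RingHom.congr_fun (f := ((ψ V hV).comp (𝒮h.presheaf.map (homOfLE h).op).hom).comp (P U hU).toRingHom)
      (g := ((B.presheaf.map (homOfLE h).op).hom.comp (ψ U hU)).comp (P U hU).toRingHom) ?_ p
    refine Polynomial.ringHom_ext (fun a => ?_) ?_
    · show ψ V hV ((𝒮h.presheaf.map (homOfLE h).op).hom (P U hU (Polynomial.C a))) =
        (B.presheaf.map (homOfLE h).op).hom (ψ U hU (P U hU (Polynomial.C a)))
      rw [hPC U hU, hψι U hU]
      have n1 := ConcreteCategory.congr_hom (ι.hom.naturality (homOfLE h).op) a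
      have n2 := ConcreteCategory.congr_hom (ψ0.hom.naturality (homOfLE h).op) a
      exact (congrArg (ψ V hV) n1.symm).trans ((hψι V hV _).trans n2)
    · show ψ V hV ((𝒮h.presheaf.map (homOfLE h).op).hom (P U hU Polynomial.X)) =
        (B.presheaf.map (homOfLE h).op).hom (ψ U hU (P U hU Polynomial.X))
      rw [hPX U hU, hψz U hU, ht, restrictTop_res, hψz V hV]
  obtain ⟨Ψ, hΨ⟩ := RelSpec.exists_algHom ψ hψs hnat
  refine ⟨Ψ, biprod.hom_ext' _ _ ?_ ?_, fun Ψ' hΨ' => RelSpec.algHom_ext fun U hU => ?_⟩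
  · rw [biprod.inl_desc_assoc]
    refine RelSpec.modHom_ext fun U hU x => ?_
    show (Ψ.hom.app (op U)).hom ((ι.hom.app (op U)).hom (show 𝒮.presheaf.obj (op U) from j.app U x)) = _
    rw [hΨ U hU, hψι U hU]
    exact congrArg (fun f : E ⟶ B.toModule => (show B.presheaf.obj (op U) from f.app U x)) hψ0
  · rw [biprod.inr_desc_assoc]
    refine RelSpec.modHom_ext fun U hU r => ?_
    have hr : (show Γ(Y, U) from r) • (show Γ(Coh.structureModule Y, U) from (1 : Γ(Y, U))) = r :=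
      mul_one (show Γ(Y, U) from r)
    show (Ψ.hom.app (op U)).hom (show 𝒮h.presheaf.obj (op U) from k.app U r) =
      (show B.presheaf.obj (op U) from φ2.app U r)
    rw [← hr, Scheme.Modules.Hom.app_smul, Scheme.Modules.Hom.app_smul, hΨ U hU, hk]
    show ψ U hU ((𝒮h.str.app (op U)).hom _ * restrictTop 𝒮h z U) = (B.str.app (op U)).hom _ * t U
    rw [map_mul, hψs U hU, hψz U hU]
  · refine CommRingCat.hom_ext ?_
    rw [hΨ U hU]
    have h0 : ι ≫ Ψ' = ψ0 := hψ0u _ (by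
      have h := biprod.inl ≫= hΨ'
      rw [biprod.inl_desc_assoc] at h
      show j ≫ RelSpec.QCAlg.Hom.toModuleMap (ι ≫ Ψ') = _
      rw [toModuleMap_comp, ← Category.assoc]
      exact h)
    refine RingHom.ext fun y => ?_
    obtain ⟨p, rfl⟩ := (P U hU).surjective y
    refine RingHom.congr_fun (f := (Ψ'.hom.app (op U)).hom.comp (P U hU).toRingHom)
      (g := (ψ U hU).comp (P U hU).toRingHom) ?_ p
    refine Polynomial.ringHom_ext (fun a => ?_) ?_
    · show (Ψ'.hom.app (op U)).hom (P U hU (Polynomial.C a)) = ψ U hU (P U hU (Polynomial.C a))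
      rw [hPC U hU, hψι U hU]
      exact congrArg (fun f : 𝒮.toQCAlg ⟶ B => (f.hom.app (op U)).hom a) h0
    · show (Ψ'.hom.app (op U)).hom (P U hU Polynomial.X) = ψ U hU (P U hU Polynomial.X)
      rw [hPX U hU, hψz U hU, ← hk]
      have h := biprod.inr ≫= hΨ'
      rw [biprod.inr_desc_assoc] at h
      exact congrArg (fun f : Coh.structureModule Y ⟶ B.toModule =>
        (show B.presheaf.obj (op U) from f.app U (1 : Γ(Y, U)))) h

/-- The generators have degree one. -/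
theorem desc_mem_deg_one (hj : ∀ (U : Y.Opens) (hU : IsAffineOpen U) (x : Γ(E, U)), (j.app U) x ∈ 𝒮.deg U hU 1)
    (hz : RelCone.IsPolyOver 𝒮 𝒮h ι z)
    (hk : ∀ U : Y.Opens, (k.app U) (1 : Γ(Y, U)) = restrictTop 𝒮h z U)
    (U : Y.Opens) (hU : IsAffineOpen U) (x : Γ(E ⊞ Coh.structureModule Y, U)) :
    (biprod.desc (j ≫ RelSpec.QCAlg.Hom.toModuleMap ι) k).app U x ∈ 𝒮h.deg U hU 1 := by
  have he : biprod.desc (j ≫ RelSpec.QCAlg.Hom.toModuleMap ι) k =
      biprod.fst ≫ j ≫ RelSpec.QCAlg.Hom.toModuleMap ι + biprod.snd ≫ k := biprod.desc_eq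
  rw [he]
  refine AddSubgroup.add_mem _ (hz.graded U hU 1 _ (hj U hU _)) ?_
  let r : Γ(Y, U) := (biprod.snd (X := E) (Y := Coh.structureModule Y)).app U x
  have hr : r • (show Γ(Coh.structureModule Y, U) from (1 : Γ(Y, U))) = r := mul_one r
  show k.app U (show Γ(Coh.structureModule Y, U) from r) ∈ 𝒮h.deg U hU 1
  rw [← hr, Scheme.Modules.Hom.app_smul, hk]
  exact SetLike.GradedMul.mul_mem (i := 0) (j := 1) (𝒮h.str_mem U hU r) (hz.deg_z U hU)

end GrothLib.SymPoly8
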